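/-
Automorphisms of the Sylow subgroup of a p-minimal group, part 1: facts about subgroups of the image
of the Thompson subgroup acting on the components.
-/
import Cfsg.Agent.Lib.MinPush.CompGlobal

set_option autoImplicit false
set_option linter.unusedSectionVars false
set_option linter.unusedVariables false
set_option linter.style.haveILetI false

namespace Cfsg.Agent.PMinAut

open Cfsg.Agent.MinParFF Cfsg.Agent.FFEmb Cfsg.Agent.MinPush
open Equiv

variable {H : Type*} [Group H] [Finite H] {V : Type*} [AddCommGroup V] [Finite V] [DistribMulAction H V]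
  {p : ℕ} [hp : Fact p.Prime] {T : Sylow p H} {D : Fc p V T} {J : Subgroup H}

theorem isComp_conj {i j : Fin D.r} {t x e : H} (hij : conjS t (D.E i) = D.E j) (h : D.IsComp i x e) :
    D.IsComp j (t * x * t⁻¹) (t * e * t⁻¹) := by
  refine ⟨hij ▸ mem_conjS_of h.1, fun v => ?_⟩
  rw [mul_smul, mul_smul, mul_smul, mul_smul, ← smul_sub, ← hij, mem_fx_conjS, inv_smul_smul]
  exact h.2 _

theorem comp_mem (hJ : JG D J) (i : Fin D.r) (x : ↥D.top) (hx : (x : H) ∈ J) :
    (D.proj i x : H) ∈ J ⊓ D.E i := by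
  have key : ∀ y ∈ (⨆ j, J ⊓ D.E j), ∀ hy : y ∈ D.top, (D.proj i ⟨y, hy⟩ : H) ∈ J ⊓ D.E i := by
    intro y hy
    induction hy using Subgroup.iSup_induction' with
    | hp j z hz =>
      intro hzt
      rcases eq_or_ne j i with rfl | hne
      · rw [D.proj_self hz.2]; exact hz
      · rw [D.proj_other hne hz.2]; exact one_mem _
    | h1 =>
      intro h1
      rw [show (⟨1, h1⟩ : ↥D.top) = 1 from rfl, map_one]
      exact one_mem _
    | hmul a b ha hb iha ihb =>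
      intro hab
      have hle : (⨆ j, J ⊓ D.E j) ≤ D.top := iSup_le fun j => inf_le_right.trans (le_iSup D.E j)
      rw [show (⟨a * b, hab⟩ : ↥D.top) = ⟨a, hle ha⟩ * ⟨b, hle hb⟩ from rfl, map_mul]
      exact mul_mem (iha _) (ihb _)
  exact key x (hJ.eq_iSup.le hx) x.2

theorem moves_pair {m : ℕ} {σ : Perm (Fin (2 * m + 1))} (h : σ ∈ mS m) {k : Fin m}
    {a : Fin (2 * m + 1)} (ha : a = pA k ∨ a = pB k) (hm : σ a ≠ a) : σ (pA k) = pB k ∧ σ (pB k) = pA k := by
  rcases (mS_pairs h).2 k with e | e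
  · rcases ha with rfl | rfl
    · exact absurd e.1 hm
    · exact absurd e.2 hm
  · exact e

/-- A nontrivial subgroup of `J` normalised by the Sylow group fixes only what `J` fixes. -/
theorem fx_of_normal (hJ : JG D J) {X : Subgroup H} (hXJ : X ≤ J) (hne : X ≠ ⊥)
    (hn : ∀ t ∈ (T : Subgroup H), ∀ x ∈ X, t * x * t⁻¹ ∈ X) : fx V X ≤ fx V J := by
  intro v hv
  refine hJ.mem_fx_iff.2 fun i => ?_
  obtain ⟨x0, hx0, hx1⟩ := (Subgroup.bot_or_exists_ne_one X).resolve_left hne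
  have hx0t : x0 ∈ D.top := hJ.le_top (hXJ hx0)
  obtain ⟨j, hj⟩ : ∃ j, D.proj j ⟨x0, hx0t⟩ ≠ 1 := by
    by_contra hc
    push Not at hc
    exact hx1 (D.eq_one hx0t fun j => by simpa [hc j] using D.isComp_proj j ⟨x0, hx0t⟩)
  obtain ⟨t, ht, hji⟩ := D.trans j i
  set e0 : H := t * (D.proj j ⟨x0, hx0t⟩ : H) * t⁻¹ with he0
  have hc0 : D.IsComp i (t * x0 * t⁻¹) e0 := isComp_conj hji (D.isComp_proj j ⟨x0, hx0t⟩)
  have hx0' : t * x0 * t⁻¹ ∈ X := hn t ht x0 hx0
  have he1 : e0 ≠ 1 := fun e => hj (Subtype.ext (conj_eq_one_iff.1 e))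
  have hmem : ∀ x e, x ∈ X → D.IsComp i x e → e ∈ J ⊓ D.E i ∧ e • v - v ∈ fx V (D.E i) := by
    intro x e hx hc
    refine ⟨?_, ?_⟩
    · rw [← D.proj_eq (x := ⟨x, hJ.le_top (hXJ hx)⟩) hc]
      exact comp_mem hJ i _ (hXJ hx)
    · have := neg_mem (hc.2 v)
      rwa [hv x hx, neg_sub] at this
  obtain ⟨he0S, -⟩ := hmem _ _ hx0' hc0
  rcases kd hJ i with d | d
  · rw [d.cq_iff inf_le_right]
    have h1 := (d.ker _).2 (hmem _ _ hx0' hc0).2
    rw [map_sub, d.equi ⟨e0, hc0.1⟩ v, sub_eq_zero] at h1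
    obtain ⟨c, hc⟩ := mem_unip.1 ((d.img ⟨e0, hc0.1⟩).2 he0S)
    have hc1 : c ≠ 0 := fun e => he1 (congrArg Subtype.val (d.ρ.injective
      (by rw [hc, e, map_one]; exact uu_zero) : (⟨e0, hc0.1⟩ : ↥(D.E i)) = 1))
    have h2 := congrFun h1 0
    rw [hc, av_uu] at h2
    simpa [hc1] using h2
  · rw [d.cq_iff inf_le_right, mem_evFix_mS]
    refine ⟨d.sum v, fun l => ?_⟩
    have hσ0 : d.ρ ⟨e0, hc0.1⟩ ∈ mS d.m := (d.img _).2 he0S
    obtain ⟨k, hk⟩ : ∃ k, d.ρ ⟨e0, hc0.1⟩ (pA k) ≠ pA k := by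
      by_contra hc
      push Not at hc
      refine he1 (congrArg Subtype.val (d.ρ.injective (Equiv.ext fun x => ?_) :
        (⟨e0, hc0.1⟩ : ↥(D.E i)) = 1))
      rw [map_one, Perm.one_apply]
      rcases point_cases x with ⟨q, rfl⟩ | ⟨q, rfl⟩ | rfl
      · exact hc q
      · rcases (mS_pairs hσ0).2 q with e | e
        · exact e.2
        · exact absurd (e.1.symm.trans (hc q)) (pA_ne_pB q q).symm
      · exact (mS_pairs hσ0).1
    obtain ⟨g, hgT, hg⟩ := d.tr k l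
    have hgi : conjS (g : H) (D.E i) = D.E i := conjS_self g.2
    have hc1 := isComp_conj hgi hc0
    obtain ⟨hS1, hf1⟩ := hmem _ _ (hn _ hgT _ hx0') hc1
    set σ := d.ρ ⟨(g : H) * e0 * (g : H)⁻¹, hc1.1⟩ with hσ
    have hσeq : σ = d.ρ g * d.ρ ⟨e0, hc0.1⟩ * (d.ρ g)⁻¹ := by
      rw [hσ, ← map_inv, ← map_mul, ← map_mul]
      rfl
    have hpt : d.ρ g (pA k) = pA l ∨ d.ρ g (pA k) = pB l := by
      have h3 : (d.ρ g * tau k * (d.ρ g)⁻¹) (d.ρ g (pA k)) = d.ρ g (pB k) := by simp [tau]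
      rw [hg] at h3
      by_contra hc
      push Not at hc
      rw [tau, swap_apply_of_ne_of_ne hc.1 hc.2] at h3
      exact pA_ne_pB k k ((d.ρ g).injective h3)
    have hmv : σ (d.ρ g (pA k)) ≠ d.ρ g (pA k) := by
      rw [hσeq]
      simpa using hk
    obtain ⟨hAB, -⟩ := moves_pair ((d.img _).2 hS1) hpt hmv
    have h4 := (d.ker _).2 hf1
    rw [map_sub, d.equi ⟨_, hc1.1⟩ v, ← hσ, sub_eq_zero] at h4
    have h5 := congrFun h4 (pB l)
    simp only [pact] at h5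
    rwa [show σ⁻¹ (pB l) = pA l from Perm.inv_eq_iff_eq.2 hAB.symm] at h5

theorem sub_or {Y : Type*} [Group Y] (A B : Subgroup Y) (h : ∀ y, y ∈ A ∨ y ∈ B) : A = ⊤ ∨ B = ⊤ := by
  by_contra hc
  push Not at hc
  obtain ⟨a, ha⟩ : ∃ a, a ∉ A := by
    by_contra h'; push Not at h'; exact hc.1 (eq_top_iff.2 fun y _ => h' y)
  obtain ⟨b, hb⟩ : ∃ b, b ∉ B := by
    by_contra h'; push Not at h'; exact hc.2 (eq_top_iff.2 fun y _ => h' y)
  have haB := (h a).resolve_left ha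
  have hbA := (h b).resolve_right hb
  rcases h (a * b) with e | e
  · exact ha (by simpa using A.mul_mem e (A.inv_mem hbA))
  · exact hb (by simpa using B.mul_mem (B.inv_mem haB) e)

/-- A finite set closed under products is a subgroup. -/
def subOfMul {Y : Type*} [Group Y] [Finite Y] (s : Set Y) (h1 : (1 : Y) ∈ s)
    (hm : ∀ a b, a ∈ s → b ∈ s → a * b ∈ s) : Subgroup Y where
  carrier := s
  one_mem' := h1
  mul_mem' := fun {a b} => hm a b
  inv_mem' := fun {a} ha => by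
    rw [← eq_inv_of_mul_eq_one_left (show a ^ (orderOf a - 1) * a = 1 by
      rw [← pow_succ, Nat.sub_add_cancel (orderOf_pos a), pow_orderOf_eq_one])]
    exact Submonoid.pow_mem ({ carrier := s, one_mem' := h1, mul_mem' := fun {a b} => hm a b } : Submonoid Y) ha _

/-- An additive relation between a group covering `J` and vectors, the vector of an element being
fixed by its image modulo the fixed vectors of each component, has only vectors fixed by `J`. -/
theorem rel_fixed (hJ : JG D J) {Y : Type*} [Group Y] [Finite Y] (f : Y →* H) (hf : ∀ s, s ∈ J → ∃ y, f y = s)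
    (hfJ : ∀ y, f y ∈ J) (R : Y → V → Prop) (htot : ∀ y, ∃ v, R y v) (hone : R 1 0)
    (hadd : ∀ y y' v v', R y v → R y' v' → R (y * y') (v + v'))
    (huniq : ∀ y v v', R y v → R y v' → v - v' ∈ fx V J)
    (hfix : ∀ y v, R y v → ∀ i, f y • v - v ∈ fx V (D.E i)) :
    ∀ y v, R y v → v ∈ fx V J := by
  classical
  intro y0 v0 hR0
  refine hJ.mem_fx_iff.2 fun i => ?_
  -- the dichotomy
  have dich : ∀ (U : AddSubgroup V) (K : Subgroup ↥(D.E i)), fx V J ≤ U →
      (∀ y v, R y v → D.proj i ⟨f y, hJ.le_top (hfJ y)⟩ ∈ K ∨ v ∈ U) →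
      (∃ s, ∃ hs : s ∈ J ⊓ D.E i, (⟨s, hs.2⟩ : ↥(D.E i)) ∉ K) → v0 ∈ U := by
    intro U K hU hor hK
    let g : Y →* ↥(D.E i) := (D.proj i).comp (f.codRestrict D.top fun y => hJ.le_top (hfJ y))
    let B : Subgroup Y := subOfMul {y | ∃ v ∈ U, R y v} ⟨0, zero_mem _, hone⟩
      fun a b ⟨v, hv, hr⟩ ⟨w, hw, hr'⟩ => ⟨v + w, add_mem hv hw, hadd _ _ _ _ hr hr'⟩
    have hAB : ∀ y, y ∈ K.comap g ∨ y ∈ B := fun y => by
      obtain ⟨v, hr⟩ := htot y
      exact (hor y v hr).imp id fun hv => ⟨v, hv, hr⟩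
    rcases sub_or (K.comap g) B hAB with e | e
    · obtain ⟨s, hs, hsK⟩ := hK
      obtain ⟨y, rfl⟩ := hf s hs.1
      refine absurd ?_ hsK
      have h1 : g y ∈ K := Subgroup.mem_comap.1 (e ▸ Subgroup.mem_top y)
      convert h1 using 1
      exact Subtype.ext (D.proj_self hs.2).symm
    · obtain ⟨v, hv, hr⟩ : y0 ∈ B := e ▸ Subgroup.mem_top y0
      simpa using add_mem (hU (huniq _ _ _ hR0 hr)) hv
  have hcomp : ∀ y v, R y v → ∃ e : H, ∃ he : e ∈ J ⊓ D.E i,
      D.proj i ⟨f y, hJ.le_top (hfJ y)⟩ = ⟨e, he.2⟩ ∧ e • v - v ∈ fx V (D.E i) := fun y v hr => by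
    set e := D.proj i ⟨f y, hJ.le_top (hfJ y)⟩
    refine ⟨e, comp_mem hJ i _ (hfJ y), rfl, ?_⟩
    have := sub_mem (hfix y v hr i) ((D.isComp_proj i ⟨f y, hJ.le_top (hfJ y)⟩).2 v)
    rwa [sub_sub_sub_cancel_left] at this
  have hle : ∀ w ∈ fx V J, w ∈ cq V (D.E i) (J ⊓ D.E i) := fun w hw => hJ.mem_fx_iff.1 hw i
  rcases kd hJ i with d | d
  · refine dich _ ⊥ hle (fun y v hr => ?_) ?_
    · obtain ⟨e, he, hpe, hef⟩ := hcomp y v hr
      by_cases h1 : e = 1
      · left; rw [hpe, Subgroup.mem_bot]; exact Subtype.ext h1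
      · right
        rw [d.cq_iff inf_le_right]
        obtain ⟨c, hc⟩ := mem_unip.1 ((d.img ⟨e, he.2⟩).2 he)
        have hc1 : c ≠ 0 := fun e0 => h1 (congrArg Subtype.val (d.ρ.injective
          (by rw [hc, e0, map_one]; exact uu_zero) : (⟨e, he.2⟩ : ↥(D.E i)) = 1))
        have h2 := (d.ker _).2 hef
        rw [map_sub, d.equi ⟨e, he.2⟩ v, sub_eq_zero] at h2
        have h3 := congrFun h2 0
        rw [hc, av_uu] at h3
        simpa [hc1] using h3
    · obtain ⟨s, hs, hs1⟩ := (Subgroup.bot_or_exists_ne_one (J ⊓ D.E i)).resolve_left (hJ.part_ne i)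
      exact ⟨s, hs, fun e => hs1 (congrArg Subtype.val (Subgroup.mem_bot.1 e))⟩
  · rw [d.cq_iff inf_le_right, mem_evFix_mS]
    refine ⟨d.sum v0, fun k => ?_⟩
    let Uk : AddSubgroup V :=
      { carrier := {v | d.ψ v (pA k) = d.ψ v (pB k)}
        zero_mem' := by simp
        add_mem' := fun {a b} ha hb => by
          simp only [Set.mem_setOf_eq, map_add, Pi.add_apply] at *
          rw [ha, hb]
        neg_mem' := fun {a} ha => by
          simp only [Set.mem_setOf_eq, map_neg, Pi.neg_apply] at *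
          rw [ha] }
    refine dich Uk ((MulAction.stabilizer (Perm (Fin (2 * d.m + 1))) (pA k)).comap d.ρ.toMonoidHom)
      (fun w hw => (mem_evFix_mS.1 ((d.cq_iff inf_le_right).1 (hle w hw))).2 k) (fun y v hr => ?_) ?_
    · obtain ⟨e, he, hpe, hef⟩ := hcomp y v hr
      by_cases h1 : d.ρ ⟨e, he.2⟩ (pA k) = pA k
      · left; rw [hpe]; exact h1
      · right
        obtain ⟨hAB, -⟩ := moves_pair ((d.img ⟨e, he.2⟩).2 he) (Or.inl rfl) h1
        have h2 := (d.ker _).2 hef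
        rw [map_sub, d.equi ⟨e, he.2⟩ v, sub_eq_zero] at h2
        have h3 := congrFun h2 (pB k)
        simp only [pact] at h3
        rwa [show (d.ρ ⟨e, he.2⟩)⁻¹ (pB k) = pA k from Perm.inv_eq_iff_eq.2 hAB.symm] at h3
    · refine ⟨d.el (tau k), ⟨(d.el_mem_S.2 (tau_mem k)).1, d.el_mem _⟩, fun e => ?_⟩
      have e' : d.ρ ⟨d.el (tau k), d.el_mem _⟩ (pA k) = pA k := e
      rw [d.ρ_el, tau, swap_apply_left] at e'
      exact pA_ne_pB k k e'.symm

/-- The vectors fixed by a normal subgroup meeting each component are fixed by each component. -/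
theorem fx_le_comp {K : Subgroup H} (hK : ∀ g : H, conjS g K = K) {i : Fin D.r} {e : H} (he : e ∈ D.E i)
    (heK : e ∈ K) (he1 : e ≠ 1) : fx V K ≤ fx V (D.E i) := by
  intro u hu
  by_contra hne
  have htop := natE_irred (D.nat i) (fx V K) (fun g hg w hw => smul_mem_fx_of_conjS (hK g) hw) hu hne
  refine he1 (D.faith e fun v => ?_)
  obtain ⟨a, ha, b, hb, rfl⟩ := AddSubgroup.mem_sup.1 (htop ▸ AddSubgroup.mem_top v : v ∈ fx V K ⊔ fx V (D.E i))
  rw [smul_add, ha e heK, hb e he]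

end Cfsg.Agent.PMinAut
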