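/-
Automorphisms of the Sylow subgroup of a p-minimal group, part 2: translates of subgroups of a
subgroup under its automorphisms.
-/
import Cfsg.Agent.Lib.LocalCStar.Transfer

set_option autoImplicit false
set_option linter.unusedSectionVars false

namespace Cfsg.Agent.PMinAut

open Subgroup
open scoped commutatorElement

variable {G : Type*} [Group G] [Finite G] {p : ℕ} [hp : Fact p.Prime] {S : Subgroup G}

/-- The translate of `X` under an automorphism of `S`, as a map into the group. -/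
def av' (a : MulAut ↥S) : ↥S →* G := S.subtype.comp a.toMonoidHom

theorem av'_inj (a : MulAut ↥S) : Function.Injective (av' a) := fun _ _ e =>
  a.injective (Subtype.ext e)

/-- The translate of `X`. -/
def tr (a : MulAut ↥S) (X : Subgroup G) : Subgroup G := (X.subgroupOf S).map (av' a)

theorem tr_le (a : MulAut ↥S) (X : Subgroup G) : tr a X ≤ S := by
  rintro _ ⟨x, -, rfl⟩
  exact (a x).2

theorem mem_tr {a : MulAut ↥S} {X : Subgroup G} {x : ↥S} : ((a x : ↥S) : G) ∈ tr a X ↔ (x : G) ∈ X := by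
  refine ⟨?_, fun h => ⟨x, h, rfl⟩⟩
  rintro ⟨y, hy, e⟩
  rwa [← av'_inj a e]

theorem mem_tr' {a : MulAut ↥S} {X : Subgroup G} {g : G} (hg : g ∈ tr a X) :
    ∃ x : ↥S, (x : G) ∈ X ∧ ((a x : ↥S) : G) = g := by
  obtain ⟨x, hx, rfl⟩ := hg
  exact ⟨x, hx, rfl⟩

theorem tr_mono (a : MulAut ↥S) {X Y : Subgroup G} (h : X ≤ Y) : tr a X ≤ tr a Y :=
  map_mono fun _ hx => h hx

theorem tr_subgroupOf (a : MulAut ↥S) (X : Subgroup G) :
    (tr a X).subgroupOf S = (X.subgroupOf S).map a.toMonoidHom := by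
  rw [tr, av', ← Subgroup.map_map]
  exact comap_map_eq_self_of_injective S.subtype_injective _

theorem tr_mul (a b : MulAut ↥S) (X : Subgroup G) : tr (a * b) X = tr a (tr b X) := by
  rw [tr, tr, tr_subgroupOf, Subgroup.map_map]
  rfl

theorem tr_one {X : Subgroup G} (hX : X ≤ S) : tr (1 : MulAut ↥S) X = X := map_subgroupOf_eq_of_le hX

theorem tr_inv_cancel (a : MulAut ↥S) {X : Subgroup G} (hX : X ≤ S) : tr a (tr a⁻¹ X) = X := by
  rw [← tr_mul, mul_inv_cancel, tr_one hX]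

theorem tr_bot (a : MulAut ↥S) : tr a (⊥ : Subgroup G) = ⊥ := by
  rw [tr, bot_subgroupOf, (Subgroup.map_eq_bot_iff_of_injective _ (av'_inj a)).2 rfl]

theorem tr_commutator (a : MulAut ↥S) {X Y : Subgroup G} (hX : X ≤ S) (hY : Y ≤ S) :
    tr a ⁅X, Y⁆ = ⁅tr a X, tr a Y⁆ := by
  rw [tr, tr, tr, ← map_commutator]
  congr 1
  refine map_injective S.subtype_injective ?_
  rw [map_commutator, map_subgroupOf_eq_of_le hX, map_subgroupOf_eq_of_le hY,
    map_subgroupOf_eq_of_le ((commutator_le.2 fun x hx y hy => by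
      rw [commutatorElement_def]
      exact mul_mem (mul_mem (mul_mem (hX hx) (hY hy)) (inv_mem (hX hx))) (inv_mem (hY hy))))]

theorem tr_sup (a : MulAut ↥S) {X Y : Subgroup G} (hX : X ≤ S) (hY : Y ≤ S) :
    tr a (X ⊔ Y) = tr a X ⊔ tr a Y := by
  rw [tr, tr, tr, ← Subgroup.map_sup, subgroupOf_sup hX hY]

theorem tr_inf_cent (a : MulAut ↥S) {X Y : Subgroup G} (hX : X ≤ S) (hY : Y ≤ S) :
    tr a (X ⊓ centralizer (Y : Set G)) = tr a X ⊓ centralizer (tr a Y : Set G) := by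
  have e : (X ⊓ centralizer (Y : Set G)).subgroupOf S =
      X.subgroupOf S ⊓ centralizer (Y.subgroupOf S : Set ↥S) := by
    refine map_injective S.subtype_injective ?_
    rw [LCS.map_inf_cent S.subtype S.subtype_injective, map_subgroupOf_eq_of_le hX, map_subgroupOf_eq_of_le hY,
      map_subgroupOf_eq_of_le (inf_le_left.trans hX)]
  rw [tr, tr, tr, e, LCS.map_inf_cent _ (av'_inj a)]

theorem card_tr (a : MulAut ↥S) {X : Subgroup G} (hX : X ≤ S) : Nat.card ↥(tr a X) = Nat.card ↥X := by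
  rw [tr, card_map_of_injective (av'_inj a), Nat.card_congr (subgroupOfEquivOfLe hX).toEquiv]

theorem tr_normal (a : MulAut ↥S) {X : Subgroup G} (hn : ∀ s ∈ S, ∀ x ∈ X, s * x * s⁻¹ ∈ X) :
    ∀ s ∈ S, ∀ x ∈ tr a X, s * x * s⁻¹ ∈ tr a X := by
  rintro s hs _ ⟨x, hx, rfl⟩
  refine ⟨a⁻¹ ⟨s, hs⟩ * x * (a⁻¹ ⟨s, hs⟩)⁻¹, hn _ (a⁻¹ ⟨s, hs⟩).2 _ hx, ?_⟩
  show ((a (a⁻¹ ⟨s, hs⟩ * x * (a⁻¹ ⟨s, hs⟩)⁻¹) : ↥S) : G) = s * (a x : ↥S) * s⁻¹
  rw [map_mul, map_mul, map_inv, show a (a⁻¹ ⟨s, hs⟩) = ⟨s, hs⟩ from a.apply_symm_apply _]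
  rfl

theorem tr_baumann (a : MulAut ↥S) :
    tr a (Cfsg.baumannSubgroupOf p S) = Cfsg.baumannSubgroupOf p S := by
  have e1 := LCS.map_baumann (p := p) S.subtype S.subtype_injective (⊤ : Subgroup ↥S)
  have e2 := LCS.map_baumann (p := p) (av' a) (av'_inj a) (⊤ : Subgroup ↥S)
  rw [← MonoidHom.range_eq_map, Subgroup.range_subtype] at e1
  rw [← MonoidHom.range_eq_map] at e2
  have hr : (av' a).range = S := le_antisymm (by rintro _ ⟨x, rfl⟩; exact (a x).2)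
    fun s hs => ⟨a⁻¹ ⟨s, hs⟩, by show ((a (a⁻¹ ⟨s, hs⟩) : ↥S) : G) = s; rw [show a (a⁻¹ ⟨s, hs⟩) = ⟨s, hs⟩ from a.apply_symm_apply _]⟩
  rw [hr] at e2
  rw [tr]
  conv_lhs => rw [e1]
  rw [e2]
  congr 1
  exact comap_map_eq_self_of_injective S.subtype_injective _

theorem tr_omegaOneCenter (a : MulAut ↥S) :
    tr a (Cfsg.omegaOneCenter p S) = Cfsg.omegaOneCenter p S := by
  have e1 := LCS.map_omegaOneCenter (p := p) S.subtype S.subtype_injective (⊤ : Subgroup ↥S)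
  have e2 := LCS.map_omegaOneCenter (p := p) (av' a) (av'_inj a) (⊤ : Subgroup ↥S)
  rw [← MonoidHom.range_eq_map, Subgroup.range_subtype] at e1
  rw [← MonoidHom.range_eq_map] at e2
  have hr : (av' a).range = S := le_antisymm (by rintro _ ⟨x, rfl⟩; exact (a x).2)
    fun s hs => ⟨a⁻¹ ⟨s, hs⟩, by show ((a (a⁻¹ ⟨s, hs⟩) : ↥S) : G) = s; rw [show a (a⁻¹ ⟨s, hs⟩) = ⟨s, hs⟩ from a.apply_symm_apply _]⟩
  rw [hr] at e2
  rw [tr]
  conv_lhs => rw [e1]
  rw [e2]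
  congr 1
  exact comap_map_eq_self_of_injective S.subtype_injective _

theorem tr_char (a : MulAut ↥S) {B C : Subgroup G} (hBS : B ≤ S) (hCB : C ≤ B)
    (hB : ∀ b : MulAut ↥S, tr b B = B) (hC : (C.subgroupOf B).Characteristic) : tr a C ≤ C := by
  rintro _ ⟨x, hx, rfl⟩
  have hmem : ∀ (b : MulAut ↥S) (y : ↥B), ((b ⟨y, hBS y.2⟩ : ↥S) : G) ∈ B := fun b y =>
    (hB b).le (mem_tr.2 y.2)
  let e : ↥B ≃* ↥B :=
    { toFun := fun y => ⟨_, hmem a y⟩
      invFun := fun y => ⟨_, hmem a⁻¹ y⟩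
      left_inv := fun y => Subtype.ext (by
        show ((a⁻¹ (a ⟨y, hBS y.2⟩) : ↥S) : G) = y
        rw [show a⁻¹ (a ⟨y, hBS y.2⟩) = ⟨y, hBS y.2⟩ from a.symm_apply_apply _])
      right_inv := fun y => Subtype.ext (by
        show ((a (a⁻¹ ⟨y, hBS y.2⟩) : ↥S) : G) = y
        rw [show a (a⁻¹ ⟨y, hBS y.2⟩) = ⟨y, hBS y.2⟩ from a.apply_symm_apply _])
      map_mul' := fun y z => Subtype.ext (by
        show ((a ⟨(y : G) * z, _⟩ : ↥S) : G) = (a ⟨y, _⟩ : ↥S) * (a ⟨z, _⟩ : ↥S)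
        rw [show (⟨(y : G) * z, hBS (y * z).2⟩ : ↥S) = ⟨y, hBS y.2⟩ * ⟨z, hBS z.2⟩ from rfl, map_mul]
        rfl) }
  have h1 : (⟨(x : G), hCB hx⟩ : ↥B) ∈ C.subgroupOf B := hx
  exact (hC.fixed e).ge h1

end Cfsg.Agent.PMinAut
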