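/-
Automorphisms of the Sylow subgroup of a p-minimal group, part 3: two translates of the module `W`.
-/
import Cfsg.Agent.Lib.MinPush.Structure
import Cfsg.Agent.Lib.PMinAut.Component
import Cfsg.Agent.Lib.PMinAut.Transport

set_option autoImplicit false
set_option linter.unusedSectionVars false
set_option linter.unusedVariables false
set_option linter.style.haveILetI false

namespace Cfsg.Agent.PMinAut

open Subgroup Cfsg.Agent.MinPush Cfsg.Agent.MinParFF Cfsg.Agent.FFEmb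
open scoped commutatorElement IsMulCommutative

variable {G : Type*} [Group G] [Finite G] {T : Sylow 2 G}

/-- The translate of `W`. -/
abbrev wa (a : MulAut ↥(T : Subgroup G)) : Subgroup G := tr a (wj T)

/-- Two translates meet in a noncentral way. -/
def Adj (a : MulAut ↥(T : Subgroup G)) : Prop := ⁅wj T, wa a⁆ ≠ ⊥

variable (h : Stg T)
include h

theorem wj_le_T : wj T ≤ (T : Subgroup G) := h.wj_le_core.trans (PBasic.pCore_le_sylow T)

theorem wa_one : wa (1 : MulAut ↥(T : Subgroup G)) = wj T := tr_one (wj_le_T h)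

theorem wj_le_bt : wj T ≤ bt T := h.wj_le_qb.trans inf_le_right

theorem wa_le_bt (a : MulAut ↥(T : Subgroup G)) : wa a ≤ bt T :=
  (tr_mono a (wj_le_bt h)).trans (tr_baumann a).le

theorem wa_normal (a : MulAut ↥(T : Subgroup G)) :
    ∀ s ∈ (T : Subgroup G), ∀ x ∈ wa a, s * x * s⁻¹ ∈ wa a :=
  tr_normal a fun s _ x hx => h.wj_normal.conj_mem x hx s

theorem wa_elem (a : MulAut ↥(T : Subgroup G)) :
    (∀ x ∈ wa a, ∀ y ∈ wa a, x * y = y * x) ∧ ∀ x ∈ wa a, x ^ 2 = 1 := by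
  refine ⟨fun x hx y hy => ?_, fun x hx => ?_⟩
  · obtain ⟨x', hx', rfl⟩ := mem_tr' hx
    obtain ⟨y', hy', rfl⟩ := mem_tr' hy
    rw [← Subgroup.coe_mul, ← Subgroup.coe_mul, ← map_mul, ← map_mul,
      show x' * y' = y' * x' from Subtype.ext (h.wj_comm hx' hy')]
  · obtain ⟨x', hx', rfl⟩ := mem_tr' hx
    rw [← SubmonoidClass.coe_pow, ← map_pow, show x' ^ 2 = 1 from Subtype.ext (h.wj_elem.2 _ hx'), map_one]
    rfl

theorem qb_eq_cent : qb T = bt T ⊓ centralizer (wj T : Set G) := by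
  refine le_antisymm (le_inf inf_le_right (h.qb_eq.le.trans inf_le_right)) fun x hx => ?_
  refine mem_inf.2 ⟨h.T_inf_Cz_le (mem_inf.2 ⟨bt_le T (mem_inf.1 hx).1, fun v hv => ?_⟩), (mem_inf.1 hx).1⟩
  exact (mem_inf.1 hx).2 v (mem_sup_left hv)

theorem wa_le_qb_iff (a : MulAut ↥(T : Subgroup G)) : wa a ≤ qb T ↔ ¬ Adj a := by
  rw [Adj, not_not, commutator_comm, commutator_eq_bot_iff_le_centralizer, qb_eq_cent h]
  exact ⟨fun e => e.trans inf_le_right, fun e => le_inf (wa_le_bt h a) e⟩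

theorem not_adj_one : ¬ Adj (1 : MulAut ↥(T : Subgroup G)) := by
  rw [← wa_le_qb_iff h, wa_one h]
  exact h.wj_le_qb

omit h in
theorem adj_inv_aux {a : MulAut ↥(T : Subgroup G)} (hW : wj T ≤ (T : Subgroup G)) (ha : Adj a) : Adj a⁻¹ := by
  intro e
  refine ha ?_
  have e2 := congrArg (tr a) e
  rwa [tr_bot, tr_commutator a hW (tr_le _ _), tr_inv_cancel a hW, commutator_comm] at e2

theorem adj_inv {a : MulAut ↥(T : Subgroup G)} (ha : Adj a) : Adj a⁻¹ := adj_inv_aux (wj_le_T h) ha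

theorem mem_qb_of_qu {x : G} (hx : x ∈ bt T) (hq : qu 2 G x = 1) : x ∈ qb T :=
  mem_inf.2 ⟨h.T_inf_Cz_le (mem_inf.2 ⟨bt_le T hx, qu_eq_one.1 hq⟩), hx⟩

theorem card_qu_mul {Y : Subgroup G} (hY : Y ≤ bt T) :
    Nat.card ↥(Y.map (qu 2 G)) * Nat.card ↥(Y ⊓ centralizer (wj T : Set G)) = Nat.card ↥Y := by
  set f := (qu 2 G).comp Y.subtype
  have hr : f.range = Y.map (qu 2 G) := by rw [MonoidHom.range_comp, Subgroup.range_subtype]
  have hk : f.ker = (centralizer (wj T : Set G)).subgroupOf Y := by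
    ext y
    rw [MonoidHom.mem_ker, mem_subgroupOf]
    refine ⟨fun e => ?_, fun e => qu_eq_one.2 fun v hv => e v (mem_sup_left hv)⟩
    exact ((qb_eq_cent h).le (mem_qb_of_qu h (hY y.2) e)).2
  have h1 := Subgroup.card_mul_index f.ker
  rw [Subgroup.index_ker, hr, hk, mul_comm] at h1
  rw [← Nat.card_congr (subgroupOfEquivOfLe (inf_le_left : Y ⊓ centralizer (wj T : Set G) ≤ Y)).toEquiv,
    inf_subgroupOf_left]
  exact h1

omit h in
theorem card_fx_qu (Y : Subgroup G) :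
    Nat.card (fx (Vq 2 G) (Y.map (qu 2 G))) = Nat.card ↥(Vz 2 G ⊓ centralizer (Y : Set G)) :=
  Nat.card_congr (Equiv.ofBijective
    (fun x => ⟨((Additive.toMul (x : Vq 2 G) : Vz 2 G) : G), mem_inf.2 ⟨(Additive.toMul (x : Vq 2 G)).2,
      mem_centralizer_iff.2 fun a ha => (mem_fx_qu (Additive.toMul (x : Vq 2 G)).2).1 x.2 a ha⟩⟩)
    ⟨fun x y e => Subtype.ext (Additive.toMul.injective (Subtype.ext (congrArg Subtype.val e :))),
      fun y => ⟨⟨Additive.ofMul ⟨y, (mem_inf.1 y.2).1⟩,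
        (mem_fx_qu (mem_inf.1 y.2).1).2 fun a ha => (mem_inf.1 y.2).2 a ha⟩, rfl⟩⟩)

omit h in
theorem card_wj (T : Sylow 2 G) :
    Nat.card ↥(wj T) * Nat.card ↥(Vz 2 G ⊓ zj T) = Nat.card ↥(Vz 2 G) * Nat.card ↥(zj T) := by
  rw [show wj T = zj T ⊔ Vz 2 G from sup_comm _ _, inf_comm (Vz 2 G), mul_comm (Nat.card ↥(Vz 2 G))]
  exact PushUp.card_sup_eq (le_top.trans (normalizer_eq_top (H := Vz 2 G)).ge)

/-- The points of `W` fixed by a subgroup of the Baumann subgroup. -/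
theorem card_wj_fix {Y : Subgroup G} (hY : Y ≤ bt T) :
    Nat.card ↥(wj T ⊓ centralizer (Y : Set G)) * Nat.card ↥(Vz 2 G ⊓ zj T) =
      Nat.card ↥(Vz 2 G ⊓ centralizer (Y : Set G)) * Nat.card ↥(zj T) := by
  have hZ : zj T ≤ centralizer (Y : Set G) := fun z hz y hy => bt_comm_zj T (hY hy) hz
  have e : wj T ⊓ centralizer (Y : Set G) = (Vz 2 G ⊓ centralizer (Y : Set G)) ⊔ zj T := by
    refine le_antisymm (fun w hw => ?_) (sup_le (inf_le_inf_right _ le_sup_left) (le_inf le_sup_right hZ))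
    obtain ⟨v, hv, z, hz, rfl⟩ := mem_sup_of_normal_left.1 (mem_inf.1 hw).1
    refine mul_mem (mem_sup_left (mem_inf.2 ⟨hv, ?_⟩)) (mem_sup_right hz)
    simpa using mul_mem (mem_inf.1 hw).2 (inv_mem (hZ hz))
  have e2 : Vz 2 G ⊓ centralizer (Y : Set G) ⊓ zj T = Vz 2 G ⊓ zj T := by
    rw [inf_assoc, inf_eq_right.2 hZ]
  have hn : zj T ≤ normalizer ((Vz 2 G ⊓ centralizer (Y : Set G) : Subgroup G) : Set G) :=
    BBlock.le_normalizer_of_conj fun z hz x hx => by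
      have hc : z * x = x * z := h.wj_comm (mem_sup_right hz) (mem_sup_left (mem_inf.1 hx).1)
      rwa [hc, mul_inv_cancel_right]
  have := PushUp.card_sup_eq hn
  rw [sup_comm (zj T), inf_comm (zj T), ← e, e2] at this
  rw [this, mul_comm]

theorem offend_le {Y : Subgroup G} (hel : Elem 2 (Y.map (qu 2 G))) (hY : Y ≤ bt T) :
    Nat.card ↥(Y.map (qu 2 G)) * Nat.card ↥(Vz 2 G ⊓ centralizer (Y : Set G)) ≤ Nat.card ↥(Vz 2 G) := by
  have h1 := (h.fc.offend ((map_mono hY).trans (h.bt_map.le.trans h.jg.le_top)) hel).1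
  rw [mu, card_fx_qu, show Nat.card (Vq 2 G) = Nat.card ↥(Vz 2 G) from Nat.card_congr Additive.toMul] at h1
  exact h1

theorem offend_wj {Y : Subgroup G} (hel : Elem 2 (Y.map (qu 2 G))) (hY : Y ≤ bt T) :
    Nat.card ↥Y * Nat.card ↥(wj T ⊓ centralizer (Y : Set G)) ≤
      Nat.card ↥(wj T) * Nat.card ↥(Y ⊓ centralizer (wj T : Set G)) := by
  have e1 := card_qu_mul h hY
  have e2 := card_wj_fix h hY
  have e3 : Nat.card ↥(wj T) * Nat.card ↥(Vz 2 G ⊓ zj T) = Nat.card ↥(Vz 2 G) * Nat.card ↥(zj T) :=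
    card_wj T
  have e4 := offend_le h hel hY
  refine Nat.le_of_mul_le_mul_right ?_ (Nat.card_pos (α := ↥(Vz 2 G ⊓ zj T)))
  calc Nat.card ↥Y * Nat.card ↥(wj T ⊓ centralizer (Y : Set G)) * Nat.card ↥(Vz 2 G ⊓ zj T)
      = Nat.card ↥Y * (Nat.card ↥(Vz 2 G ⊓ centralizer (Y : Set G)) * Nat.card ↥(zj T)) := by
        rw [mul_assoc, e2]
    _ = (Nat.card ↥(Y.map (qu 2 G)) * Nat.card ↥(Vz 2 G ⊓ centralizer (Y : Set G))) *
          (Nat.card ↥(zj T) * Nat.card ↥(Y ⊓ centralizer (wj T : Set G))) := by rw [← e1]; ring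
    _ ≤ Nat.card ↥(Vz 2 G) * (Nat.card ↥(zj T) * Nat.card ↥(Y ⊓ centralizer (wj T : Set G))) :=
        Nat.mul_le_mul_right _ e4
    _ = Nat.card ↥(wj T) * Nat.card ↥(Y ⊓ centralizer (wj T : Set G)) * Nat.card ↥(Vz 2 G ⊓ zj T) := by
        rw [← mul_assoc, ← e3]; ring

theorem wa_elem_qu (a : MulAut ↥(T : Subgroup G)) : Elem 2 ((wa a).map (qu 2 G)) := by
  refine ⟨?_, ?_⟩
  · rintro _ ⟨x, hx, rfl⟩ _ ⟨y, hy, rfl⟩
    rw [← map_mul, ← map_mul, (wa_elem h a).1 x hx y hy]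
  · rintro _ ⟨x, hx, rfl⟩
    rw [← map_pow, (wa_elem h a).2 x hx, map_one]

/-- A translate not commuting with `W` covers the image of the Thompson subgroup and fixes in `W`
only what the Baumann subgroup fixes. -/
theorem adj_facts {a : MulAut ↥(T : Subgroup G)} (ha : Adj a) :
    (wa a).map (qu 2 G) = (bt T).map (qu 2 G) ∧
      (∀ b ∈ bt T, ∃ x ∈ wa a, ∃ q ∈ qb T, b = x * q) ∧
      ∀ v ∈ Vz 2 G, v ∈ centralizer (wa a : Set G) → v ∈ centralizer (bt T : Set G) := by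
  set X := wa a with hXdef
  have hXB : X ≤ bt T := wa_le_bt h a
  have hW := wj_le_T h
  have hXJ : X.map (qu 2 G) ≤ (jt T).map (qu 2 G) := (map_mono hXB).trans h.bt_map.le
  have hne : X.map (qu 2 G) ≠ ⊥ := by
    intro e
    refine (wa_le_qb_iff h a).1 (fun x hx => mem_qb_of_qu h (hXB hx) ?_) ha
    exact mem_bot.1 (e ▸ mem_map_of_mem _ hx)
  have hn : ∀ t ∈ (tb T : Subgroup (G ⧸ Cz 2 G)), ∀ x ∈ X.map (qu 2 G), t * x * t⁻¹ ∈ X.map (qu 2 G) := by
    rw [tb_coe]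
    rintro _ ⟨t, ht, rfl⟩ _ ⟨x, hx, rfl⟩
    exact ⟨t * x * t⁻¹, wa_normal h a t ht x hx, by simp⟩
  have hfx := fx_of_normal h.jg hXJ hne hn
  -- the inequality, in both directions
  have h1 := offend_wj h (wa_elem_qu h a) hXB
  have h2 := offend_wj h (wa_elem_qu h a⁻¹) (wa_le_bt h a⁻¹)
  have k1 : Nat.card ↥(wa a⁻¹) = Nat.card ↥(wj T) := card_tr _ hW
  have k2 : Nat.card ↥X = Nat.card ↥(wj T) := card_tr _ hW
  have k3 : Nat.card ↥(wj T ⊓ centralizer (wa a⁻¹ : Set G)) = Nat.card ↥(X ⊓ centralizer (wj T : Set G)) := by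
    rw [← card_tr a (inf_le_left.trans hW), tr_inf_cent a hW (tr_le _ _), tr_inv_cancel a hW]
  have k4 : Nat.card ↥(wa a⁻¹ ⊓ centralizer (wj T : Set G)) = Nat.card ↥(wj T ⊓ centralizer (X : Set G)) := by
    rw [← card_tr a (inf_le_left.trans (tr_le _ _)), tr_inf_cent a (tr_le _ _) hW, tr_inv_cancel a hW]
  rw [k1, k3, k4] at h2
  rw [k2] at h1
  have heq : Nat.card ↥(wj T ⊓ centralizer (X : Set G)) = Nat.card ↥(X ⊓ centralizer (wj T : Set G)) :=
    le_antisymm (Nat.le_of_mul_le_mul_left h1 Nat.card_pos) (Nat.le_of_mul_le_mul_left h2 Nat.card_pos)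
  -- the offender equality
  have e1 := card_qu_mul h hXB
  have e2 := card_wj_fix h hXB
  have e3 : Nat.card ↥(wj T) * Nat.card ↥(Vz 2 G ⊓ zj T) = Nat.card ↥(Vz 2 G) * Nat.card ↥(zj T) :=
    card_wj T
  have hfull : Nat.card ↥(X.map (qu 2 G)) * Nat.card ↥(Vz 2 G ⊓ centralizer (X : Set G)) =
      Nat.card ↥(Vz 2 G) := by
    refine Nat.eq_of_mul_eq_mul_right (Nat.card_pos (α := ↥(zj T))) ?_
    rw [← e3, mul_assoc, ← e2, ← k2, ← e1, ← heq]
    ring
  have hJel : Elem 2 ((bt T).map (qu 2 G)) := by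
    rw [h.bt_map]
    refine ⟨h.jg.comm, ?_⟩
    obtain ⟨𝒮, hS, e⟩ := h.jg.gen
    intro x hx
    rw [e, sSup_eq_iSup'] at hx
    induction hx using Subgroup.iSup_induction' with
    | hp B z hz => exact (hS B B.2).1.exp z hz
    | h1 => exact one_pow 2
    | hmul z w hz hw ihz ihw =>
      have hc : Commute z w := h.jg.comm z (by rw [e, sSup_eq_iSup']; exact hz) w
        (by rw [e, sSup_eq_iSup']; exact hw)
      rw [hc.mul_pow, ihz, ihw, one_mul]
  have hJ := offend_le h hJel le_rfl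
  have hfix : ∀ v ∈ Vz 2 G, v ∈ centralizer (X : Set G) → v ∈ centralizer (bt T : Set G) := by
    intro v hv hc b hb
    have h3 := hfx ((mem_fx_qu hv).2 fun x hx => hc x hx)
    exact h.bt_fix hb hv ((mem_fx_qu hv).1 h3)
  have hsame : Vz 2 G ⊓ centralizer (X : Set G) = Vz 2 G ⊓ centralizer (bt T : Set G) :=
    le_antisymm (fun v hv => mem_inf.2 ⟨(mem_inf.1 hv).1, hfix v (mem_inf.1 hv).1 (mem_inf.1 hv).2⟩)
      (inf_le_inf_left _ (centralizer_le hXB))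
  rw [hsame] at hfull
  have himg : X.map (qu 2 G) = (bt T).map (qu 2 G) := eq_of_le_of_card_ge (map_mono hXB)
    (Nat.le_of_mul_le_mul_right (hJ.trans hfull.ge) Nat.card_pos)
  refine ⟨himg, fun b hb => ?_, hfix⟩
  obtain ⟨x, hx, e⟩ := himg.ge (mem_map_of_mem _ hb)
  exact ⟨x, hx, x⁻¹ * b, mem_qb_of_qu h (mul_mem (inv_mem (hXB hx)) hb)
    (by rw [map_mul, map_inv, e, inv_mul_cancel]), (mul_inv_cancel_left x b).symm⟩

theorem qb_cent_wj {q w : G} (hq : q ∈ qb T) (hw : w ∈ wj T) : q * w = w * q :=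
  ((mem_inf.1 ((qb_eq_cent h).le hq)).2 w hw).symm

/-- The commutator of two noncommuting translates. -/
theorem adj_comm {a : MulAut ↥(T : Subgroup G)} (ha : Adj a) : ⁅wj T, wa a⁆ = ⁅wj T, bt T⁆ := by
  refine le_antisymm (commutator_mono le_rfl (wa_le_bt h a)) (commutator_le.2 fun w hw b hb => ?_)
  obtain ⟨x, hx, q, hq, rfl⟩ := (adj_facts h ha).2.1 b hb
  have e : ⁅w, x * q⁆ = ⁅w, x⁆ := by
    rw [commutatorElement_def, commutatorElement_def]
    have hc : q * w⁻¹ = w⁻¹ * q := qb_cent_wj h hq (inv_mem hw)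
    calc w * (x * q) * w⁻¹ * (x * q)⁻¹ = w * x * (q * w⁻¹) * q⁻¹ * x⁻¹ := by group
      _ = _ := by rw [hc]; group
  rw [e]
  exact commutator_mem_commutator hw hx

theorem tr_edge {a : MulAut ↥(T : Subgroup G)} (ha : Adj a) : tr a ⁅wj T, bt T⁆ = ⁅wj T, bt T⁆ := by
  rw [← adj_comm h (adj_inv h ha), tr_commutator a (wj_le_T h) (tr_le _ _), tr_inv_cancel a (wj_le_T h),
    commutator_comm, adj_comm h ha]
  exact (adj_comm h (adj_inv h ha)).symm

theorem qb_split {a : MulAut ↥(T : Subgroup G)} (ha : Adj a) {q : G} (hq : q ∈ qb T) :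
    ∃ v ∈ Vz 2 G, ∃ r, r ∈ qb T ∧ r ∈ centralizer (wa a : Set G) ∧ q = v * r := by
  have e : tr a (bt T) = bt T := tr_baumann a
  obtain ⟨x0, hx0, e0⟩ := mem_tr' (e.ge (mem_inf.1 hq).2)
  obtain ⟨y, hy, r0, hr0, e1⟩ := (adj_facts h (adj_inv h ha)).2.1 (x0 : G) hx0
  have hyT : y ∈ (T : Subgroup G) := tr_le _ _ hy
  have hrT : r0 ∈ (T : Subgroup G) := bt_le T (mem_inf.1 hr0).2
  have hw : ((a ⟨y, hyT⟩ : ↥(T : Subgroup G)) : G) ∈ wj T :=
    (tr_inv_cancel a (wj_le_T h)).le (mem_tr.2 hy)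
  have hr : ((a ⟨r0, hrT⟩ : ↥(T : Subgroup G)) : G) ∈ tr a (bt T ⊓ centralizer (wj T : Set G)) :=
    mem_tr.2 ((qb_eq_cent h).le hr0)
  rw [tr_inf_cent a (bt_le T) (wj_le_T h), e] at hr
  have e2 : q = ((a ⟨y, hyT⟩ : ↥(T : Subgroup G)) : G) * (a ⟨r0, hrT⟩ : ↥(T : Subgroup G)) := by
    rw [← e0, ← Subgroup.coe_mul, ← map_mul]
    exact congrArg (fun z : ↥(T : Subgroup G) => ((a z : ↥(T : Subgroup G)) : G)) (Subtype.ext e1)
  obtain ⟨v, hv, z, hz, e3⟩ := mem_sup_of_normal_left.1 hw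
  refine ⟨v, hv, v⁻¹ * q, mul_mem (inv_mem (h.wj_le_qb (mem_sup_left hv))) hq, ?_, by rw [mul_inv_cancel_left]⟩
  rw [e2, ← e3, mul_assoc, inv_mul_cancel_left]
  exact mul_mem (fun x hx => bt_comm_zj T (wa_le_bt h a hx) hz) (mem_inf.1 hr).2

end Cfsg.Agent.PMinAut
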