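/-
Automorphisms of the Sylow subgroup of a p-minimal group, part 4: the colouring of the translates.
-/
import Cfsg.Agent.Lib.PMinAut.Pair

set_option autoImplicit false
set_option linter.unusedSectionVars false
set_option linter.unusedVariables false
set_option linter.style.haveILetI false

namespace Cfsg.Agent.PMinAut

open Subgroup Cfsg.Agent.MinPush Cfsg.Agent.MinParFF Cfsg.Agent.FFEmb
open scoped commutatorElement IsMulCommutative

variable {G : Type*} [Group G] [Finite G] {T : Sylow 2 G}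
variable (h : Stg T)
include h

theorem comm_eb_mem (i : Fin h.fc.r) {k x : G} (hk : k ∈ h.eb i) (hx : x ∈ Cfsg.pCore 2 G) :
    k * x * k⁻¹ * x⁻¹ ∈ Vz 2 G := by
  haveI := Cfsg.pCore_normal 2 G
  set E := h.eb i with hE
  have hblk := h.eb_blk i
  have hq : k * x * k⁻¹ * x⁻¹ ∈ E ⊓ Cfsg.pCore 2 G := mem_inf.2 ⟨by
      rw [show k * x * k⁻¹ * x⁻¹ = k * (x * k⁻¹ * x⁻¹) by group]
      exact mul_mem hk (BBlock.cm (h.core_le_norm_eb i hx) (inv_mem hk)),
    mul_mem ((Cfsg.pCore_normal 2 G).conj_mem x hx k) (inv_mem hx)⟩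
  rw [hblk.inf_eq] at hq
  have hqw : BBlock.qB 2 E = BBlock.wB 2 E := by
    rcases BBlock.block_exc (h.eb_block i) with e | e
    · exact e
    · exact absurd e.1 (by norm_num)
  have hqv : BBlock.qB 2 E ≤ BBlock.vB 2 E := by
    conv_lhs => rw [← hblk.qB_comm, hqw]
  exact BBlock.commutator_le_pCore h.hG T (h.eb_block i) (hqv hq)

theorem square_fixed (i : Fin h.fc.r) {k r : G} (hk : k ∈ h.eb i) (hr : r ∈ Cfsg.pCore 2 G) :
    k * r ^ 2 * k⁻¹ = r ^ 2 := by
  have hv := comm_eb_mem h i hk hr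
  set v := k * r * k⁻¹ * r⁻¹ with hvdef
  have e : k * r * k⁻¹ = v * r := by rw [hvdef, inv_mul_cancel_right]
  have hc : Commute v r := (core_comm_Vz hr hv).symm
  rw [← conj_pow, e, hc.mul_pow, Vz_elem.2 v hv, one_mul]

theorem ebs_normal : (⨆ i, h.eb i).Normal := by
  refine ⟨fun x hx g => ?_⟩
  have hle : (⨆ i, h.eb i).map (MulAut.conj g).toMonoidHom ≤ ⨆ i, h.eb i := by
    rw [Subgroup.map_iSup]
    refine iSup_le fun i => ?_
    obtain ⟨j, hj⟩ := h.exists_eb_conj i g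
    exact hj.le.trans (le_iSup h.eb j)
  exact hle ⟨x, hx, rfl⟩

omit h in
theorem comm_central {v w x y : G} (hvx : Commute v x) (hvy : Commute v y) (hwx : Commute w x) (hwy : Commute w y)
    (hvw : Commute v w) : v * x * (w * y) * (v * x)⁻¹ * (w * y)⁻¹ = x * y * x⁻¹ * y⁻¹ := by
  have hz : Commute (x * y * x⁻¹ * y⁻¹) (v⁻¹ * w⁻¹) :=
    (((hvx.inv_left.mul_left hwx.inv_left).mul_right (hvy.inv_left.mul_left hwy.inv_left)).mul_right
      (hvx.inv_inv.mul_left hwx.inv_inv)).mul_right (hvy.inv_inv.mul_left hwy.inv_inv) |>.symm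
  calc v * x * (w * y) * (v * x)⁻¹ * (w * y)⁻¹
      = v * (x * w) * y * x⁻¹ * (v⁻¹ * y⁻¹) * w⁻¹ := by group
    _ = v * (w * x) * y * x⁻¹ * (y⁻¹ * v⁻¹) * w⁻¹ := by rw [hwx.eq, hvy.inv_inv.eq]
    _ = v * w * ((x * y * x⁻¹ * y⁻¹) * (v⁻¹ * w⁻¹)) := by group
    _ = v * w * ((v⁻¹ * w⁻¹) * (x * y * x⁻¹ * y⁻¹)) := by rw [hz.eq]
    _ = _ := by rw [hvw.eq]; group

/-- The elements acting trivially on `V` modulo `U`. -/
def act1' (U : Subgroup G) : Subgroup G :=
  subOfMul {b | (∀ v ∈ Vz 2 G, b * v * b⁻¹ * v⁻¹ ∈ U)} (fun v hv => by simp)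
    fun a b ha hb v hv => by
      have h1 := ha _ (Vz_normal.conj_mem v hv b)
      rw [show a * b * v * (a * b)⁻¹ * v⁻¹ = (a * (b * v * b⁻¹) * a⁻¹ * (b * v * b⁻¹)⁻¹) * (b * v * b⁻¹ * v⁻¹)
        by group]
      exact mul_mem h1 (hb v hv)

theorem omega_le_Vz : Cfsg.omegaOneCenter 2 (T : Subgroup G) ≤ Vz 2 G := fun z hz => by
  obtain ⟨hzT, hzc⟩ := mem_inf.1 (BBlock.omegaOneCenter_le 2 _ hz)
  have hzQ : z ∈ Cfsg.pCore 2 G := h.hG fun q hq => hzc q (PBasic.pCore_le_sylow T hq)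
  exact OmegaOne.mem (mem_inf.2 ⟨hzQ, fun q hq => hzc q (PBasic.pCore_le_sylow T hq)⟩)
    (BBlock.omegaOneCenter_pow hz)

/-- The commutator of `W` with the Baumann subgroup is not the commutator of two subgroups of `qb`. -/
theorem not_both_qb {X Y : Subgroup G} (hX : X ≤ qb T) (hY : Y ≤ qb T)
    (he : ⁅X, Y⁆ = ⁅wj T, bt T⁆) : False := by
  haveI := h.qb_normal
  haveI := Cfsg.pCore_normal 2 G
  set K := ⨆ i, h.eb i with hK
  set U := ⁅qb T, qb T⁆ ⊓ Vz 2 G with hU
  haveI hUn : U.Normal := Subgroup.normal_inf_normal _ _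
  -- the blocks centralise the derived subgroup of `qb`
  have hKU : ∀ k ∈ K, ∀ u ∈ U, k * u = u * k := by
    have hle : K ≤ centralizer ((⁅qb T, qb T⁆ : Subgroup G) : Set G) := iSup_le fun i k hk => by
      rw [mem_centralizer_iff]
      intro u hu
      have hsub : ⁅qb T, qb T⁆ ≤ centralizer ({k} : Set G) := commutator_le.2 fun x hx y hy => by
        rw [mem_centralizer_singleton_iff, eq_comm, ← mul_inv_eq_iff_eq_mul,
          ← MulAut.conj_apply, map_commutatorElement, MulAut.conj_apply, MulAut.conj_apply]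
        have hx' := (mem_inf.1 hx).1
        have hy' := (mem_inf.1 hy).1
        set v := k * x * k⁻¹ * x⁻¹ with hv
        set w := k * y * k⁻¹ * y⁻¹ with hw
        have hv' := comm_eb_mem h i hk hx'
        have hw' := comm_eb_mem h i hk hy'
        rw [show k * x * k⁻¹ = v * x by rw [hv, inv_mul_cancel_right],
          show k * y * k⁻¹ = w * y by rw [hw, inv_mul_cancel_right], commutatorElement_def, commutatorElement_def]
        exact comm_central (core_comm_Vz hx' hv').symm (core_comm_Vz hy' hv').symm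
          (core_comm_Vz hx' hw').symm (core_comm_Vz hy' hw').symm (core_comm_Vz (Vz_le_core hv') hw')
      exact (mem_centralizer_singleton_iff.1 (hsub hu))
    exact fun k hk u hu => (hle hk u (mem_inf.1 hu).1).symm
  -- the Baumann subgroup acts trivially on `V` modulo `U`
  have hBU : ∀ b ∈ bt T, ∀ v ∈ Vz 2 G, b * v * b⁻¹ * v⁻¹ ∈ U := fun b hb v hv => by
    refine mem_inf.2 ⟨?_, mul_mem (Vz_normal.conj_mem v hv b) (inv_mem hv)⟩
    rw [← commutatorElement_def, ← commutatorElement_inv]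
    refine inv_mem (commutator_mono hX hY ?_)
    rw [he]
    exact commutator_mem_commutator (mem_sup_left hv) hb
  obtain ⟨i⟩ : Nonempty (Fin h.fc.r) := ⟨⟨0, h.fc.pos⟩⟩
  haveI hKn := ebs_normal h
  have hBS : Cfsg.baumannSubgroup 2 G ≤ act1' U := iSup_le fun P => by
    obtain ⟨g, hg⟩ := LESylow.exists_conj_eq T P
    rw [← hg, BBlock.baumann_map_conj]
    rintro _ ⟨b, hb, rfl⟩
    intro v hv
    show g * b * g⁻¹ * v * (g * b * g⁻¹)⁻¹ * v⁻¹ ∈ U
    have := hUn.conj_mem _ (hBU b hb (g⁻¹ * v * g)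
      (by simpa using Vz_normal.conj_mem v hv g⁻¹)) g
    convert this using 1
    group
  refine h.eb_not_le i ?_
  have hEres := (h.eb_block i).1
  rw [← hEres, BBlock.pResidualOf_eq_closure, closure_le]
  rintro k ⟨hk, hco⟩
  have hkC : k ∈ Cz 2 G := fun v hv => by
    have hd : v⁻¹ * (k * v * k⁻¹) ∈ U := by
      have h1 : k * v * k⁻¹ * v⁻¹ ∈ U :=
        hBS (BBlock.baumann_block_le T (h.eb_block i) hk) v hv
      simpa [mul_assoc] using hUn.conj_mem _ h1 v⁻¹
    exact (AxB.commute_of_conj_mem (AxB.isPGroup_pCore 2 |>.to_le Vz_le_core) (mem_inf.1 hd).2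
      (hKU k (le_iSup h.eb i hk) _ hd) (pow_orderOf_eq_one k) hco.symm).symm
  exact mem_sup_left (centralizer_le (omega_le_Vz h) hkC)

/-- Two translates outside `qb` commute. -/
theorem comm_of_adj {a b : MulAut ↥(T : Subgroup G)} (ha : Adj a) (hb : Adj b) : ⁅wa a, wa b⁆ = ⊥ := by
  set X := wa a with hXdef
  set Y := wa b with hYdef
  set J := (jt T).map (qu 2 G) with hJ
  have hYJ : Y.map (qu 2 G) = J := (adj_facts h hb).1.trans h.bt_map
  have hXn : ∀ s ∈ (T : Subgroup G), ∀ x ∈ X, s * x * s⁻¹ ∈ X := wa_normal h a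
  have hXT : X ≤ (T : Subgroup G) := tr_le _ _
  haveI := h.wj_normal
  -- `⁅W, X⁆` lies in both
  have hcom : ∀ v ∈ Vz 2 G, ∀ x ∈ X, x⁻¹ * v * x * v⁻¹ ∈ X ∧ x⁻¹ * v * x * v⁻¹ ∈ wj T := fun v hv x hx => by
    refine ⟨?_, mul_mem ?_ (inv_mem (mem_sup_left hv))⟩
    · rw [show x⁻¹ * v * x * v⁻¹ = x⁻¹ * (v * x * v⁻¹) by group]
      exact mul_mem (inv_mem hx) (hXn v (PBasic.pCore_le_sylow T (Vz_le_core hv)) x hx)
    · simpa using h.wj_normal.conj_mem v (mem_sup_left hv) x⁻¹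
  let R : ↥Y → Vq 2 G → Prop := fun y v => ∃ x ∈ X, ∃ r, r ∈ qb T ∧ r ∈ centralizer (X : Set G) ∧
    (y : G) = x * ((Additive.toMul v : Vz 2 G) : G) * r
  have hqu : ∀ (y : ↥Y) v, R y v → ∃ x ∈ X, ∃ r, r ∈ qb T ∧ r ∈ centralizer (X : Set G) ∧
      (y : G) = x * ((Additive.toMul v : Vz 2 G) : G) * r ∧ qu 2 G y = qu 2 G x := by
    rintro y v ⟨x, hx, r, hr, hrX, e⟩
    refine ⟨x, hx, r, hr, hrX, e, ?_⟩
    rw [e, map_mul, map_mul, qu_eq_one.2 (Vz_le_Cz (Additive.toMul v).2),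
      qu_eq_one.2 (pCore_le_Cz (mem_inf.1 hr).1), mul_one, mul_one]
  have key := rel_fixed h.jg ((qu 2 G).comp Y.subtype)
    (fun s hs => by
      obtain ⟨y, hy, rfl⟩ := hYJ.ge hs
      exact ⟨⟨y, hy⟩, rfl⟩)
    (fun y => hYJ.le (mem_map_of_mem _ y.2)) R
    (fun y => by
      obtain ⟨x, hx, q, hq, e⟩ := (adj_facts h ha).2.1 (y : G) (wa_le_bt h b y.2)
      obtain ⟨v, hv, r, hr, hrX, e'⟩ := qb_split h ha hq
      exact ⟨Additive.ofMul ⟨v, hv⟩, x, hx, r, hr, hrX, by
        show (y : G) = x * v * r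
        rw [e, e', ← mul_assoc]⟩)
    ⟨1, one_mem _, 1, one_mem _, one_mem _, by simp⟩
    (fun y y' v v' hr hr' => by
      obtain ⟨x, hx, r, hrq, hrX, e⟩ := hr
      obtain ⟨x', hx', r', hrq', hrX', e'⟩ := hr'
      set u := ((Additive.toMul v : Vz 2 G) : G) with hu
      set u' := ((Additive.toMul v' : Vz 2 G) : G) with hu'
      have hum : u ∈ Vz 2 G := (Additive.toMul v).2
      have hum' : u' ∈ Vz 2 G := (Additive.toMul v').2
      set c := x'⁻¹ * u * x' * u⁻¹ with hc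
      obtain ⟨hcX, hcW⟩ := hcom u hum x' hx'
      refine ⟨x * x', mul_mem hx hx', c * (r * r'), mul_mem (h.wj_le_qb hcW) (mul_mem hrq hrq'),
        mul_mem (fun z hz => (wa_elem h a).1 z hz c hcX) (mul_mem hrX hrX'), ?_⟩
      show (y : G) * y' = x * x' * (u * u') * (c * (r * r'))
      rw [e, e']
      have c1 : Commute r x' := (hrX x' hx').symm
      have c2 : Commute r u' := core_comm_Vz (mem_inf.1 hrq).1 hum'
      have c3 : Commute u c := h.wj_comm (mem_sup_left hum) hcW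
      have c4 : Commute c u' := h.wj_comm hcW (mem_sup_left hum')
      calc x * u * r * (x' * u' * r') = x * u * (r * x') * u' * r' := by group
        _ = x * u * x' * (r * u') * r' := by rw [c1.eq]; group
        _ = x * x' * (c * u) * (u' * r) * r' := by rw [c2.eq, hc]; group
        _ = x * x' * (u * (c * u')) * r * r' := by rw [← c3.eq]; group
        _ = _ := by rw [c4.eq]; group)
    (fun y v v' hr hr' => by
      obtain ⟨x, hx, r, hrq, hrX, e, eq⟩ := hqu y v hr
      obtain ⟨x', hx', r', hrq', hrX', e', eq'⟩ := hqu y v' hr'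
      set u := ((Additive.toMul v : Vz 2 G) : G) with hu
      set u' := ((Additive.toMul v' : Vz 2 G) : G) with hu'
      have hum : u ∈ Vz 2 G := (Additive.toMul v).2
      have hum' : u' ∈ Vz 2 G := (Additive.toMul v').2
      set x0 := x'⁻¹ * x with hx0
      have hx0q : x0 ∈ qb T := mem_qb_of_qu h (wa_le_bt h a (mul_mem (inv_mem hx') hx))
        (by rw [hx0, map_mul, map_inv, ← eq, ← eq', inv_mul_cancel])
      have c1 : Commute x0 u := qb_cent_wj h hx0q (mem_sup_left hum)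
      have e1 : u'⁻¹ * u = x0⁻¹ * (r' * r⁻¹) := by
        have e2 : x * u * r = x' * u' * r' := e.symm.trans e'
        calc u'⁻¹ * u = x0⁻¹ * ((x0 * u'⁻¹) * u) := by group
          _ = x0⁻¹ * (u'⁻¹ * x'⁻¹ * (x * u * r) * r⁻¹) := by
            rw [(qb_cent_wj h hx0q (inv_mem (mem_sup_left hum')) : x0 * u'⁻¹ = u'⁻¹ * x0), hx0]; group
          _ = _ := by rw [e2]; group
      have hcX : u'⁻¹ * u ∈ centralizer (X : Set G) := by
        rw [e1]
        exact mul_mem (inv_mem (fun z hz => (wa_elem h a).1 z hz x0 (mul_mem (inv_mem hx') hx)))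
          (mul_mem hrX' (inv_mem hrX))
      have hfix := (adj_facts h ha).2.2 _ (mul_mem (inv_mem hum') hum) hcX
      have h3 : Additive.ofMul (⟨u'⁻¹ * u, mul_mem (inv_mem hum') hum⟩ : Vz 2 G) ∈ fx (Vq 2 G) J := by
        refine (mem_fx_qu _).2 fun j hj => (hfix j (jt_le_bt T hj))
      convert h3 using 1
      refine Additive.toMul.injective (Subtype.ext ?_)
      rw [toMul_sub, div_eq_mul_inv, Subgroup.coe_mul, Subgroup.coe_inv, toMul_ofMul]
      show u * u'⁻¹ = u'⁻¹ * u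
      exact h.wj_comm (mem_sup_left hum) (inv_mem (mem_sup_left hum')))
    (fun y v hr i => by
      obtain ⟨x, hx, r, hrq, hrX, e, eq⟩ := hqu y v hr
      set u := ((Additive.toMul v : Vz 2 G) : G) with hu
      have hum : u ∈ Vz 2 G := (Additive.toMul v).2
      have c1 : Commute r x := (hrX x hx).symm
      have c2 : Commute r u := core_comm_Vz (mem_inf.1 hrq).1 hum
      have hx2 : x⁻¹ = x := inv_eq_of_mul_eq_one_right (by rw [← sq]; exact (wa_elem h a).2 x hx)
      have hu2 : u⁻¹ = u := inv_eq_of_mul_eq_one_right (by rw [← sq]; exact Vz_elem.2 u hum)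
      have hy2 : (x * u) * (x * u) * r ^ 2 = 1 := by
        rw [← (wa_elem h b).2 (y : G) y.2, e, ← sq, ((c1.mul_right c2).symm).mul_pow]
      have hm : x * u * x⁻¹ * u⁻¹ = (r ^ 2)⁻¹ := by
        rw [hx2, hu2]
        exact eq_inv_of_mul_eq_one_left (by rwa [mul_assoc (x * u) x u])
      have hmem : qu 2 G y • v - v ∈ fx (Vq 2 G) ((⨆ j, h.eb j).map (qu 2 G)) := by
        have hval : ((Additive.toMul (qu 2 G y • v - v) : Vz 2 G) : G) = x * u * x⁻¹ * u⁻¹ := by
          rw [eq, toMul_sub, div_eq_mul_inv, Subgroup.coe_mul, Subgroup.coe_inv, qu_smul]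
        set w : Vz 2 G := Additive.toMul (qu 2 G y • v - v) with hw
        have hwv : qu 2 G y • v - v = Additive.ofMul ⟨(w : G), w.2⟩ := rfl
        rw [hwv]
        refine (mem_fx_qu _).2 ?_
        rw [hval, hm]
        intro k hk
        have hle : (⨆ j, h.eb j) ≤ centralizer ({(r ^ 2)⁻¹} : Set G) := iSup_le fun j g hg => by
          rw [mem_centralizer_singleton_iff]
          have h5 := square_fixed h j hg (mem_inf.1 hrq).1
          have h6 : Commute g (r ^ 2) := mul_inv_eq_iff_eq_mul.1 h5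
          exact h6.inv_right.eq
        exact mem_centralizer_singleton_iff.1 (hle hk)
      obtain ⟨a'⟩ : Nonempty ((pcs h.jg i).ι) := inferInstance
      obtain ⟨e0, he0, he01⟩ := (Subgroup.bot_or_exists_ne_one _).resolve_left (h.dk_img_ne ⟨i, a'⟩)
      refine fx_le_comp (K := (⨆ j, h.eb j).map (qu 2 G)) (fun g => ?_) (h.dk_le_E ⟨i, a'⟩ he0)
        (map_mono ((h.dk_le_eb ⟨i, a'⟩).trans (le_iSup h.eb i)) he0) he01 hmem
      haveI := ebs_normal h
      haveI : ((⨆ j, h.eb j).map (qu 2 G)).Normal := Subgroup.Normal.map inferInstance _ qu_surj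
      exact Subgroup.Normal.map_conj_eq _ g)
  rw [commutator_comm, commutator_eq_bot_iff_le_centralizer]
  intro y hy x' hx'
  obtain ⟨x, hx, q, hq, e⟩ := (adj_facts h ha).2.1 y (wa_le_bt h b hy)
  obtain ⟨v, hv, r, hr, hrX, e'⟩ := qb_split h ha hq
  have hfix := key ⟨y, hy⟩ (Additive.ofMul ⟨v, hv⟩) ⟨x, hx, r, hr, hrX, by
    show y = x * v * r
    rw [e, e', ← mul_assoc]⟩
  have hvc : Commute x' v := h.bt_fix (wa_le_bt h a hx') hv ((mem_fx_qu hv).1 hfix)
  rw [e, e']
  exact (Commute.mul_right ((wa_elem h a).1 x' hx' x hx) (hvc.mul_right (hrX x' hx'))).eq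

/-- All the translates lie in `qb`. -/
theorem wa_le_qb {a : MulAut ↥(T : Subgroup G)} (hodd : Odd (orderOf a)) : wa a ≤ qb T := by
  rw [wa_le_qb_iff h]
  intro ha
  have hL : ∀ i : ℕ, tr (a ^ i) ⁅wj T, bt T⁆ = ⁅wj T, bt T⁆ := fun i => by
    induction i with
    | zero => rw [pow_zero, tr_one ((commutator_le.2 fun x hx y hy => by
        rw [commutatorElement_def]
        exact mul_mem (mul_mem (mul_mem (wj_le_T h hx) (bt_le T hy)) (inv_mem (wj_le_T h hx)))
          (inv_mem (bt_le T hy))) : ⁅wj T, bt T⁆ ≤ (T : Subgroup G))]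
    | succ i ih => rw [pow_succ, tr_mul, tr_edge h ha, ih]
  have hLne : ⁅wj T, bt T⁆ ≠ ⊥ := adj_comm h ha ▸ ha
  have hedge : ∀ i : ℕ, ⁅wa (a ^ i), wa (a ^ (i + 1))⁆ = ⁅wj T, bt T⁆ := fun i => by
    show ⁅wa (a ^ i), tr (a ^ (i + 1)) (wj T)⁆ = _
    rw [pow_succ, tr_mul, ← tr_commutator _ (wj_le_T h) (tr_le _ _), show tr a (wj T) = wa a from rfl,
      adj_comm h ha, hL]
  have hcol : ∀ i : ℕ, Adj (a ^ i) ↔ Odd i := fun i => by
    induction i with
    | zero =>
      rw [pow_zero]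
      exact iff_of_false (not_adj_one h) (by decide)
    | succ i ih =>
      rw [Nat.odd_add_one, ← ih]
      constructor
      · intro h1 h2
        exact hLne ((hedge i).symm.trans (comm_of_adj h h2 h1))
      · intro h1
        by_contra h2
        exact not_both_qb h ((wa_le_qb_iff h _).2 h1) ((wa_le_qb_iff h _).2 h2) (hedge i)
  have := (hcol (orderOf a)).2 hodd
  rw [pow_orderOf_eq_one] at this
  exact not_adj_one h this

/-- A nontrivial normal subgroup invariant under a group of automorphisms of odd order. -/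
theorem exists_invariant (A : Subgroup (MulAut ↥(T : Subgroup G))) (hA : Odd (Nat.card A)) :
    ∃ U : Subgroup G, U ≠ ⊥ ∧ U.Normal ∧ U ≤ (T : Subgroup G) ∧
      ∀ a ∈ A, ∀ x : ↥(T : Subgroup G), (x : G) ∈ U → ((a x : ↥(T : Subgroup G)) : G) ∈ U := by
  set U := ⨆ a : ↥A, wa (a : MulAut ↥(T : Subgroup G)) with hUdef
  have hUq : U ≤ qb T := iSup_le fun a => wa_le_qb h
    (Odd.of_dvd_nat hA (Subgroup.orderOf_dvd_natCard A a.2))
  have hUT : U ≤ (T : Subgroup G) := hUq.trans (inf_le_right.trans (bt_le T))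
  have hWU : wj T ≤ U := by
    have h1 : wa (1 : MulAut ↥(T : Subgroup G)) ≤ U :=
      le_iSup (fun a : ↥A => wa (a : MulAut ↥(T : Subgroup G))) (⟨1, one_mem A⟩ : ↥A)
    exact (wa_one h).ge.trans h1
  refine ⟨U, fun e => ?_, ?_, hUT, fun a ha x hx => ?_⟩
  · have hV : Vz 2 G = ⊥ := eq_bot_iff.2 ((le_sup_left.trans hWU).trans e.le)
    exact h.jt_not_le fun j _ => by
      intro v hv
      rw [SetLike.mem_coe, hV, mem_bot] at hv
      rw [hv, one_mul, mul_one]
  · rw [← normalizer_eq_top_iff, eq_top_iff, ← h.eb_sup_T]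
    refine sup_le (iSup_le fun i => BBlock.le_normalizer_of_conj fun k hk u hu => ?_)
      (BBlock.le_normalizer_of_conj fun t ht u hu => ?_)
    · have h1 := comm_eb_mem h i hk (mem_inf.1 (hUq hu)).1
      rw [show k * u * k⁻¹ = k * u * k⁻¹ * u⁻¹ * u by group]
      exact mul_mem (hWU (mem_sup_left h1)) hu
    · induction hu using Subgroup.iSup_induction' with
      | hp a z hz => exact le_iSup (fun a : ↥A => wa (a : MulAut ↥(T : Subgroup G))) a (wa_normal h _ t ht z hz)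
      | h1 => simp
      | hmul z w _ _ hz hw =>
        rw [show t * (z * w) * t⁻¹ = (t * z * t⁻¹) * (t * w * t⁻¹) by group]
        exact mul_mem hz hw
  · have key : tr a U ≤ U := by
      rintro _ ⟨y, hy, rfl⟩
      have : ∀ z ∈ U, ∀ hz : z ∈ (T : Subgroup G), ((a ⟨z, hz⟩ : ↥(T : Subgroup G)) : G) ∈ U := by
        intro z hz
        induction hz using Subgroup.iSup_induction' with
        | hp b z hz =>
          intro hzT
          have h1 : ((a ⟨z, hzT⟩ : ↥(T : Subgroup G)) : G) ∈ wa (a * (b : MulAut ↥(T : Subgroup G))) := by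
            show _ ∈ tr (a * (b : MulAut ↥(T : Subgroup G))) (wj T)
            rw [tr_mul]
            exact mem_tr.2 hz
          exact le_iSup (fun c : ↥A => wa (c : MulAut ↥(T : Subgroup G))) (⟨a, ha⟩ * b) h1
        | h1 => intro h1; rw [show (⟨1, h1⟩ : ↥(T : Subgroup G)) = 1 from rfl, map_one]; exact one_mem _
        | hmul z w hz hw ihz ihw =>
          intro hzw
          rw [show (⟨z * w, hzw⟩ : ↥(T : Subgroup G)) = ⟨z, hUT hz⟩ * ⟨w, hUT hw⟩ from rfl, map_mul]
          exact mul_mem (ihz _) (ihw _)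
      exact this y hy y.2
    exact key (mem_tr.2 hx)

end Cfsg.Agent.PMinAut
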